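import Cfsg.Agent.H267.E7R.Tools
import Cfsg.Agent.H72.AdjCoc
import Cfsg.Agent.H436.Names

/-!
# S3482: the symplectic and odd dimensional orthogonal rows (helper267)

* `row_psp`, `row_oodd`.
-/

set_option autoImplicit false
set_option linter.unusedVariables false

namespace Cfsg.Agent.H267.E7R

open Cfsg Cfsg.Agent.H436 Cfsg.Agent.H962.E7 Cfsg.Agent.OrdDiv
open Cfsg.Agent.H72.AdjOrth (wO ee eta)
open Cfsg.Agent.H72.AdjSp (orderOf_of_adj)

universe u

/-- the argument, in terms of the prime graph of `PSp_{2m}(u)` -/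
theorem core {p k : ℕ} {S : Type u} [Group S] (R : Row p k S) {F : Type} [Field F] [Fintype F] {m : ℕ} (hm : 2 ≤ m)
    (hv : ¬ p ∣ Nat.card F)
    (hcard : ∀ r : ℕ, r ∣ Nat.card S → r ∣ Nat.card (PSp m F))
    (hadj : ∀ r s : ℕ, r.Prime → s.Prime → r ≠ s → (∃ x : PSp m F, orderOf x = r * s) → ∃ x : S, orderOf x = r * s) :
    False := by
  classical
  obtain ⟨q, hq⟩ : ∃ q, p ^ k = q := ⟨_, rfl⟩
  have hq2 := q_two R
  have tor := R.tor
  have nad := R.nad
  have one := R.one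
  have top := R.top
  obtain ⟨a, ha⟩ := prim14 R
  obtain ⟨b, hb⟩ := prim18 R
  -- adjacency
  have hA : ∀ {r s : ℕ}, Cfsg.Agent.H94.PG.Adj (PSp m F) r s → ∃ x : S, orderOf x = r * s := by
    intro r s h
    exact hadj r s h.1 h.2.1 h.2.2.1 (orderOf_of_adj h)
  have na : ¬ Cfsg.Agent.H94.PG.Adj (PSp m F) a 2 := by
    intro h
    obtain ⟨x, hx⟩ := hA h
    exact not_two R (Or.inl rfl) ha (x := x) (by rw [hx]; exact dvd_mul_right _ _) (by rw [hx]; exact dvd_mul_left _ _)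
  have nb : ¬ Cfsg.Agent.H94.PG.Adj (PSp m F) b 2 := by
    intro h
    obtain ⟨x, hx⟩ := hA h
    exact not_two R (Or.inr rfl) hb (x := x) (by rw [hx]; exact dvd_mul_right _ _) (by rw [hx]; exact dvd_mul_left _ _)
  have a2 : a ≠ 2 := by
    have := ha.odd (by norm_num)
    omega
  have b2 : b ≠ 2 := by
    have := hb.odd (by norm_num)
    omega
  have hab : a ≠ b := by
    intro h
    have := ha.unique (h ▸ hb)
    omega
  have da := (top 14 (by decide)).dvd a ha
  have db := (top 18 (by decide)).dvd b hb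
  obtain ⟨ia, ja⟩ := H377.psp_info hm ha.prime a2 (hcard a da) na
  obtain ⟨ib, jb⟩ := H377.psp_info hm hb.prime b2 (hcard b db) nb
  have nab : ¬ Cfsg.Agent.H94.PG.Adj (PSp m F) a b := fun h =>
    nad 14 (by decide) 18 (by decide) (by norm_num) a b ha hb (hA h)
  -- the two primes in the two tori
  obtain ⟨i, j, r, s, hi, hj, hij, hr, hs, hrm, hsp, jr, js, dr, ds⟩ : ∃ i j r s : ℕ, (i = 14 ∨ i = 18) ∧
      (j = 14 ∨ j = 18) ∧ i ≠ j ∧ Prim (p ^ k) i r ∧ Prim (p ^ k) j s ∧ r ∣ Nat.card F ^ m - 1 ∧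
      s ∣ Nat.card F ^ m + 1 ∧ (∀ i, 1 ≤ i → i < m → ¬ r ∣ Nat.card F ^ (2 * i) - 1) ∧
      (∀ i, 1 ≤ i → i < m → ¬ s ∣ Nat.card F ^ (2 * i) - 1) ∧ r ∣ Nat.card S ∧ s ∣ Nat.card S := by
    rcases ia with ia | ia <;> rcases ib with ib | ib
    · exact absurd (H377.psp_adj_minus (by omega) ha.prime hb.prime a2 b2 hab ia ib) nab
    · exact ⟨14, 18, a, b, Or.inl rfl, Or.inr rfl, by norm_num, ha, hb, ia, ib, ja, jb, da, db⟩
    · exact ⟨18, 14, b, a, Or.inr rfl, Or.inl rfl, by norm_num, hb, ha, ib, ia, jb, ja, db, da⟩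
    · exact absurd (H377.psp_adj_plus (by omega) ha.prime hb.prime a2 b2 hab ia ib) nab
  clear ia ja ib jb nab hab a2 b2 na nb ha hb da db
  have r2 : r ≠ 2 := by
    have := hr.odd (by rcases hi with rfl | rfl <;> norm_num)
    omega
  have s2 : s ≠ 2 := by
    have := hs.odd (by rcases hj with rfl | rfl <;> norm_num)
    omega
  have nr : ¬ Cfsg.Agent.H94.PG.Adj (PSp m F) r 2 := by
    intro h
    obtain ⟨x, hx⟩ := hA h
    exact not_two R hi hr (x := x) (by rw [hx]; exact dvd_mul_right _ _) (by rw [hx]; exact dvd_mul_left _ _)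
  have ns : ¬ Cfsg.Agent.H94.PG.Adj (PSp m F) s 2 := by
    intro h
    obtain ⟨x, hx⟩ := hA h
    exact not_two R hj hs (x := x) (by rw [hx]; exact dvd_mul_right _ _) (by rw [hx]; exact dvd_mul_left _ _)
  -- `m` is odd
  have hmo : Odd m := by
    rcases Nat.even_or_odd m with ⟨t, ht⟩ | h
    · exfalso
      refine jr t (by omega) (by omega) ?_
      rwa [two_mul, ← ht]
    · exact h
  have hu1 : 1 < Nat.card F := Finite.one_lt_card
  obtain ⟨v, hvv⟩ : ∃ v, Nat.card F = v := ⟨_, rfl⟩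
  -- `u` is even
  have hue : v % 2 = 0 := by
    by_contra ho
    have h4 : v % 4 = 1 ∨ v % 4 = 3 := by omega
    obtain ⟨t, ht⟩ := hmo
    have hone : 1 ≤ v ^ m := Nat.one_le_pow _ _ (by omega)
    rcases h4 with h4 | h4
    · refine nr (H377.psp_adj_minus_two (by omega) hr.prime r2 hrm ?_)
      have h5 : v ^ m % 4 = 1 := by
        rw [Nat.pow_mod, h4, one_pow]
        norm_num
      rw [hvv]
      omega
    · refine ns (H377.psp_adj_plus_two (by omega) hs.prime s2 hsp ?_)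
      have h5 : v ^ m % 4 = 3 := by
        rw [ht, pow_add, pow_mul, pow_one, Nat.mul_mod, Nat.pow_mod, Nat.pow_mod v 2, h4]
        norm_num
      rw [hvv]
      omega
  -- a prime divisor of `u² - 1`
  have h4 : 4 ≤ v ^ 2 := by
    have : 2 * 2 ≤ v * v := Nat.mul_le_mul (by omega) (by omega)
    rw [sq]; omega
  obtain ⟨ℓ, hℓ, hℓd⟩ := Nat.exists_prime_and_dvd (n := v ^ 2 - 1) (by omega)
  have hℓ2 : ℓ ≠ 2 := by
    rintro rfl
    have h5 : v ^ 2 % 2 = 0 := by rw [Nat.pow_mod, hue]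
    omega
  have hℓv : ¬ ℓ ∣ v := by
    intro h
    have h5 : ℓ ∣ v ^ 2 := dvd_pow h (by norm_num)
    have h6 := Nat.dvd_sub h5 hℓd
    rw [show v ^ 2 - (v ^ 2 - 1) = 1 by omega] at h6
    exact hℓ.one_lt.ne' (Nat.dvd_one.1 h6)
  have hℓr : ℓ ≠ r := by
    rintro rfl
    refine jr 1 le_rfl (by omega) ?_
    rw [hvv, mul_one]; exact hℓd
  have hℓs : ℓ ≠ s := by
    rintro rfl
    refine js 1 le_rfl (by omega) ?_
    rw [hvv, mul_one]; exact hℓd
  have hsq : v ^ 2 - 1 = (v + 1) * (v - 1) := by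
    have := Nat.sq_sub_sq v 1
    rwa [one_pow] at this
  -- it divides a torus of class 14 or 18
  have key : ∃ i, (i = 14 ∨ i = 18) ∧ ℓ ∣ TT (p ^ k) i := by
    rw [hsq, hℓ.dvd_mul] at hℓd
    rcases hℓd with h5 | h5
    · refine ⟨j, hj, ?_⟩
      have h6 : ℓ ∣ Nat.card F ^ m + 1 := by rw [hvv]; exact h5.trans (H377.two_torus hmo)
      obtain ⟨x, hx⟩ := hA (H377.psp_adj_plus (F := F) (by omega) hℓ hs.prime hℓ2 s2 hℓs h6 hsp)
      have h7 := tor j (by rcases hj with rfl | rfl <;> decide) x s hs (by rw [hx]; exact dvd_mul_left _ _)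
      rw [hx] at h7
      exact (dvd_mul_right _ _).trans h7
    · refine ⟨i, hi, ?_⟩
      have h6 : ℓ ∣ Nat.card F ^ m - 1 := by
        rw [hvv]
        refine h5.trans ?_
        have := Nat.sub_dvd_pow_sub_pow v 1 m
        rwa [one_pow] at this
      obtain ⟨x, hx⟩ := hA (H377.psp_adj_minus (F := F) (by omega) hℓ hr.prime hℓ2 r2 hℓr h6 hrm)
      have h7 := tor i (by rcases hi with rfl | rfl <;> decide) x r hr (by rw [hx]; exact dvd_mul_left _ _)
      rw [hx] at h7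
      exact (dvd_mul_right _ _).trans h7
  obtain ⟨i', hi', hℓT⟩ := key
  -- a prime of class 7 or 9
  obtain ⟨c, hc, w, hw, dw⟩ : ∃ c, (c = 7 ∨ c = 9) ∧ ∃ w, Prim (p ^ k) c w ∧ w ∣ Nat.card S := by
    rcases one 7 (by decide) 9 (by decide) (by norm_num) with h5 | h5
    · obtain ⟨w, hw⟩ := prim7 R
      exact ⟨7, Or.inl rfl, w, hw, h5.dvd w hw⟩
    · obtain ⟨w, hw⟩ := prim9 R
      exact ⟨9, Or.inr rfl, w, hw, h5.dvd w hw⟩
  have hc8 : c ∈ C8 := by rcases hc with rfl | rfl <;> decide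
  have hc4 : c ∈ C4 := by rcases hc with rfl | rfl <;> decide
  have w2 : w ≠ 2 := by
    have := hw.odd (by rcases hc with rfl | rfl <;> norm_num)
    omega
  refine sep hq2 hℓ hℓ2 hi' hc hℓT ?_
  by_cases hℓw : ℓ = w
  · rw [hℓw]; exact hw.dvd dvd_rfl
  refine dvd_sub hq2 hc ?_
  -- `w` and `ℓ` are adjacent
  have hwr : w ≠ r := by
    rintro rfl
    have := hw.unique hr
    omega
  have hws : w ≠ s := by
    rintro rfl
    have := hw.unique hs
    omega
  have w1 : ¬ w ∣ Nat.card F ^ m - 1 := fun h5 =>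
    nad c hc8 i (by rcases hi with rfl | rfl <;> decide) (by omega) w r hw hr
      (hA (H377.psp_adj_minus (F := F) (by omega) hw.prime hr.prime w2 r2 hwr h5 hrm))
  have w3 : ¬ w ∣ Nat.card F ^ m + 1 := fun h5 =>
    nad c hc8 j (by rcases hj with rfl | rfl <;> decide) (by omega) w s hw hs
      (hA (H377.psp_adj_plus (F := F) (by omega) hw.prime hs.prime w2 s2 hws h5 hsp))
  have hwv : ¬ w ∣ v := by
    intro h5
    obtain ⟨c', _⟩ := CharP.exists F
    have : Fact c'.Prime := ⟨CharP.char_is_prime F c'⟩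
    obtain ⟨n, -, hn⟩ := FiniteField.card F c'
    rw [← Nat.card_eq_fintype_card, hvv] at hn
    have h6 : w = c' := by
      rw [hn] at h5
      exact (Nat.prime_dvd_prime_iff_eq hw.prime Fact.out).1 (hw.prime.dvd_of_dvd_pow h5)
    have h7 : 2 = c' := by
      have h8 : 2 ∣ c' ^ (n : ℕ) := by rw [← hn]; omega
      exact (Nat.prime_dvd_prime_iff_eq Nat.prime_two Fact.out).1 (Nat.prime_two.dvd_of_dvd_pow h8)
    omega
  -- the weights
  have e1 : wO (Nat.card F) ℓ = 1 := by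
    have h5 : ¬ (ℓ = 2 ∨ ℓ ∣ Nat.card F) := by
      rw [hvv]; exact not_or.2 ⟨hℓ2, hℓv⟩
    rw [wO, if_neg h5]
    have h6 : ee (Nat.card F) ℓ ∣ 2 := H72.AdjOrth.ee_dvd (by omega) (by rw [hvv]; exact hℓd)
    have h7 := (Nat.dvd_prime Nat.prime_two).1 h6
    rcases h7 with h7 | h7 <;> rw [h7] <;> rfl
  have e2 : wO (Nat.card F) w ≤ m - 1 := by
    have h5 : ¬ (w = 2 ∨ w ∣ Nat.card F) := by
      rw [hvv]; exact not_or.2 ⟨w2, hwv⟩
    rw [wO, if_neg h5]
    have h6 := H72.AdjCoc.sp_class (F := F) (m := m) hw.prime (by rw [hvv]; exact hwv) (hcard w dw)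
    rcases Nat.lt_or_ge (eta (ee (Nat.card F) w)) m with h7 | h7
    · omega
    · exfalso
      have h8 : eta (ee (Nat.card F) w) = m := le_antisymm h6 h7
      rw [eta] at h8
      have h9 := H72.AdjOrth.dvd_pow_ee (q := Nat.card F) (r := w) (by omega)
      split_ifs at h8 with h10
      · have h11 : ee (Nat.card F) w = 2 * m := by
          obtain ⟨t, ht⟩ := h10
          omega
        rw [h11] at h9
        have h12 : Nat.card F ^ (2 * m) - 1 = (Nat.card F ^ m + 1) * (Nat.card F ^ m - 1) := by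
          rw [mul_comm 2 m, pow_mul]
          have := Nat.sq_sub_sq (Nat.card F ^ m) 1
          rwa [one_pow] at this
        rw [h12, hw.prime.dvd_mul] at h9
        exact h9.elim w3 w1
      · rw [h8] at h9
        exact w1 h9
  obtain ⟨x, hx⟩ := hadj ℓ w hℓ hw.prime hℓw (H72.AdjSp.sp_adj hm hℓ hw.prime hℓw (by omega))
  have h7 := tor c hc4 x w hw (by rw [hx]; exact dvd_mul_left _ _)
  rw [hx] at h7
  exact (dvd_mul_right _ _).trans h7

/-- **row `PSp`** -/
theorem row_psp {p k m v : ℕ} {S : Type u} [Group S] [Finite S] (R : Row p k S) (hg : IsNamed (.psp m v) S)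
    (hv : ¬ p ∣ v) : False := by
  obtain ⟨F, _, _, hF, ⟨e⟩⟩ := hg.real
  have hm : 2 ≤ m := hg.cond.1
  refine core R (F := F) hm (by rw [Nat.card_eq_fintype_card, hF]; exact hv)
    (fun r hr => by rwa [← Nat.card_congr e.toEquiv]) fun r s _ _ _ ⟨x, hx⟩ => ⟨e.symm x, ?_⟩
  rw [MulEquiv.orderOf_eq, hx]

/-- **row `PΩ_{2m+1}`** -/
theorem row_oodd {p k m v : ℕ} {S : Type u} [Group S] [Finite S] (R : Row p k S) (hg : IsNamed (.oodd m v) S)
    (hv : ¬ p ∣ v) : False := by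
  obtain ⟨F, _, _, hF, ⟨e⟩⟩ := hg.real
  obtain ⟨hm, ho, -⟩ := hg.cond
  have hc : Nat.card (POmega F (quadFormOdd m F)) = Nat.card (PSp m F) := by
    have h1 := oodd_eq (F := F) hm (by rw [hF]; exact ho)
    have h2 := psp_eq (F := F) (m := m) (by omega)
    have h3 : fPSp.den m (Fintype.card F) = 2 := by
      change Nat.gcd 2 (Fintype.card F - 1) = 2
      rw [hF]
      obtain ⟨t, ht⟩ := ho
      exact Nat.gcd_eq_left (by omega)
    have h4 : fOOdd.den m (Fintype.card F) = 2 := rfl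
    have h5 : fOOdd.num m (Fintype.card F) = fPSp.num m (Fintype.card F) := rfl
    rw [h3] at h2
    rw [h4, h5, ← h2] at h1
    omega
  refine core R (F := F) (m := m) (by omega) (by rw [Nat.card_eq_fintype_card, hF]; exact hv)
    (fun r hr => by rwa [← hc, ← Nat.card_congr e.toEquiv]) fun r s hr hs hrs hx => ?_
  obtain ⟨x, hx⟩ := (Cfsg.Agent.S2474.result (F := F) (by rw [hF]; exact ho) m hm r s hr hs hrs).2 hx
  exact ⟨e.symm x, by rw [MulEquiv.orderOf_eq, hx]⟩

end Cfsg.Agent.H267.E7R
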